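/-
Two largest class sizes coprime: the group is quasi-Frobenius.
-/
import Mathlib
import Cfsg.Agent.Lib.ClassGraph.Basic

set_option autoImplicit false
set_option linter.style.haveILetI false
set_option linter.unusedSectionVars false

namespace Cfsg.Agent.Lib.ClassGraph.Top

open Subgroup Cfsg Cfsg.Agent.Lib.ClassGraph.Basic Cfsg.Agent.Lib.ClassGraph.Basic.Setup
open scoped Pointwise

section General

variable {G : Type*} [Group G]

theorem exists_zpow_eq {x y : G} (h : Commute x y) (hc : (orderOf x).Coprime (orderOf y)) :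
    ∃ k : ℤ, (x * y) ^ k = x := by
  have hbez : (1 : ℤ) = (orderOf x : ℤ) * Nat.gcdA (orderOf x) (orderOf y) +
      (orderOf y : ℤ) * Nat.gcdB (orderOf x) (orderOf y) := by
    have := Nat.gcd_eq_gcd_ab (orderOf x) (orderOf y)
    rwa [hc, Nat.cast_one] at this
  refine ⟨(orderOf y : ℤ) * Nat.gcdB (orderOf x) (orderOf y), ?_⟩
  rw [h.mul_zpow, zpow_mul y, zpow_natCast y, pow_orderOf_eq_one, one_zpow, mul_one]
  have e : (orderOf y : ℤ) * Nat.gcdB (orderOf x) (orderOf y) =
      1 - (orderOf x : ℤ) * Nat.gcdA (orderOf x) (orderOf y) := by linarith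
  rw [e, zpow_sub, zpow_one, zpow_mul, zpow_natCast, pow_orderOf_eq_one, one_zpow, inv_one, mul_one]

theorem cen_le_of_zpow {z a : G} (h : ∃ k : ℤ, z ^ k = a) :
    centralizer ({z} : Set G) ≤ centralizer ({a} : Set G) := by
  obtain ⟨k, rfl⟩ := h
  intro g hg
  have h1 : Commute g z := mem_cen.1 hg
  exact mem_cen.2 (h1.zpow_right k)

theorem cs_zpow_dvd {z a : G} (h : ∃ k : ℤ, z ^ k = a) : cs a ∣ cs z :=
  index_dvd_of_le (cen_le_of_zpow h)

/-- Commuting elements of coprime orders: the centralizer of the product. -/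
theorem cen_mul_eq {x y : G} (h : Commute x y) (hc : (orderOf x).Coprime (orderOf y)) :
    centralizer ({x * y} : Set G) = centralizer ({x} : Set G) ⊓ centralizer ({y} : Set G) := by
  apply le_antisymm
  · apply le_inf
    · exact cen_le_of_zpow (exists_zpow_eq h hc)
    · apply cen_le_of_zpow
      obtain ⟨k, hk⟩ := exists_zpow_eq h.symm hc.symm
      refine ⟨k, ?_⟩
      rw [h.eq]
      exact hk
  · rintro g ⟨h1, h2⟩
    have h1' : Commute g x := mem_cen.1 h1
    have h2' : Commute g y := mem_cen.1 h2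
    exact mem_cen.2 (h1'.mul_right h2')

theorem eq_of_le_of_index_eq [Finite G] {H K : Subgroup G} (hle : H ≤ K) (he : H.index = K.index) :
    H = K := by
  apply le_antisymm hle
  have h1 := relIndex_mul_index hle
  have h2 : K.index ≠ 0 := index_ne_zero_of_finite
  have h3 : H.relIndex K = 1 := by
    rw [he] at h1
    exact Nat.eq_of_mul_eq_mul_right (Nat.pos_of_ne_zero h2) (h1.trans (one_mul _).symm)
  exact relIndex_eq_one.1 h3

/-- Splitting an element into a `q`-part and a `q'`-part (both powers of it). -/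
theorem exists_split [Finite G] (z : G) {q : ℕ} (hq : q.Prime) :
    ∃ c d : G, z = c * d ∧ (∃ k : ℤ, z ^ k = c) ∧ (∃ k : ℤ, z ^ k = d) ∧ (∃ a : ℕ, c ^ q ^ a = 1) ∧
      (orderOf d).Coprime q := by
  obtain ⟨a, b, hb, hab⟩ := Nat.exists_eq_pow_mul_and_not_dvd (orderOf_pos z).ne' q hq.ne_one
  have hco : (q ^ a).Coprime b := Nat.Coprime.pow_left a ((Nat.Prime.coprime_iff_not_dvd hq).2 hb)
  have hbez : (1 : ℤ) = ((q ^ a : ℕ) : ℤ) * Nat.gcdA (q ^ a) b + (b : ℤ) * Nat.gcdB (q ^ a) b := by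
    have := Nat.gcd_eq_gcd_ab (q ^ a) b
    rwa [hco, Nat.cast_one] at this
  refine ⟨z ^ ((b : ℤ) * Nat.gcdB (q ^ a) b), z ^ (((q ^ a : ℕ) : ℤ) * Nat.gcdA (q ^ a) b),
    ?_, ⟨_, rfl⟩, ⟨_, rfl⟩, ⟨a, ?_⟩, ?_⟩
  · rw [← zpow_add, add_comm, ← hbez, zpow_one]
  · rw [← zpow_natCast, ← zpow_mul]
    have e : (b : ℤ) * Nat.gcdB (q ^ a) b * ((q ^ a : ℕ) : ℤ) =
        (orderOf z : ℤ) * Nat.gcdB (q ^ a) b := by
      rw [hab]; push_cast; ring
    rw [e, zpow_mul, zpow_natCast, pow_orderOf_eq_one, one_zpow]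
  · have h1 : (z ^ (((q ^ a : ℕ) : ℤ) * Nat.gcdA (q ^ a) b)) ^ b = 1 := by
      rw [← zpow_natCast, ← zpow_mul]
      have e : ((q ^ a : ℕ) : ℤ) * Nat.gcdA (q ^ a) b * (b : ℤ) =
          (orderOf z : ℤ) * Nat.gcdA (q ^ a) b := by
        rw [hab]; push_cast; ring
      rw [e, zpow_mul, zpow_natCast, pow_orderOf_eq_one, one_zpow]
    exact Nat.Coprime.coprime_dvd_left (orderOf_dvd_of_pow_eq_one h1)
      ((Nat.Prime.coprime_iff_not_dvd hq).2 hb).symm

theorem orderOf_coprime_of_pow {c : G} {q a m : ℕ} (hq : q.Prime) (hc : c ^ q ^ a = 1)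
    (hm : ¬ q ∣ m) : (orderOf c).Coprime m := by
  have h := orderOf_dvd_of_pow_eq_one hc
  have h2 : (q ^ a).Coprime m := Nat.Coprime.pow_left a ((Nat.Prime.coprime_iff_not_dvd hq).2 hm)
  exact Nat.Coprime.coprime_dvd_left h h2

/-- An element of `q`-power order commuting with a Sylow `q`-subgroup lies in it. -/
theorem mem_sylow_of_comm {q : ℕ} [Fact q.Prime] (Q : Sylow q G) {u : G} {a : ℕ} (hu : u ^ q ^ a = 1)
    (hc : u ∈ centralizer ((Q : Subgroup G) : Set G)) : u ∈ (Q : Subgroup G) := by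
  have hp : IsPGroup q (zpowers u) := by
    rw [IsPGroup.iff_orderOf]
    rintro ⟨g, hg⟩
    rw [Subgroup.orderOf_mk]
    obtain ⟨k, rfl⟩ := hg
    have h1 : (u ^ k) ^ q ^ a = 1 := by
      rw [← zpow_natCast, ← zpow_mul, mul_comm, zpow_mul, zpow_natCast, hu, one_zpow]
    obtain ⟨i, -, hi⟩ := (Nat.dvd_prime_pow Fact.out).1 (orderOf_dvd_of_pow_eq_one h1)
    exact ⟨i, hi⟩
  have hle : zpowers u ≤ normalizer ((Q : Subgroup G) : Set G) := by
    rw [zpowers_le]
    exact centralizer_le_normalizer _ hc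
  have h1 := hp.to_sup_of_normal_right' Q.isPGroup' hle
  have h2 := Q.is_maximal' h1 le_sup_right
  have h3 : u ∈ zpowers u ⊔ (Q : Subgroup G) := (le_sup_left : zpowers u ≤ _) (mem_zpowers u)
  rw [h2] at h3
  exact h3

section Finite

variable [Finite G]

/-- Orbit size at most `|S|`, counted with stabilisers. -/
theorem card_le_orbit (B : Subgroup G) (a : G) (S : Finset G) (h : ∀ b ∈ B, b * a * b⁻¹ ∈ S) :
    Nat.card B ≤ S.card * Nat.card (B ⊓ centralizer ({a} : Set G) : Subgroup G) := by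
  classical
  cases nonempty_fintype G
  set BF : Finset G := Finset.univ.filter (fun g => g ∈ B) with hBF
  have e1 : BF.card = Nat.card B := by
    rw [Nat.card_eq_fintype_card, Fintype.card_subtype]
  set IF : Finset G := Finset.univ.filter (fun g => g ∈ B ⊓ centralizer ({a} : Set G)) with hIF
  have e2 : IF.card = Nat.card (B ⊓ centralizer ({a} : Set G) : Subgroup G) := by
    rw [Nat.card_eq_fintype_card, Fintype.card_subtype]
  rw [← e1, ← e2]
  have h1 := Finset.card_le_mul_card_image (f := fun b => b * a * b⁻¹) BF IF.card (by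
    intro v hv
    obtain ⟨b0, hb0, rfl⟩ := Finset.mem_image.1 hv
    have hb0' : b0 ∈ B := (Finset.mem_filter.1 hb0).2
    refine Finset.card_le_card_of_injOn (fun b => b0⁻¹ * b) ?_ ?_
    · intro b hb
      have hb' := Finset.mem_filter.1 hb
      have hbB : b ∈ B := (Finset.mem_filter.1 hb'.1).2
      have h2 : b * a * b⁻¹ = b0 * a * b0⁻¹ := hb'.2
      have h3 : b0⁻¹ * (b * a * b⁻¹) * b0 = a := by rw [h2]; group
      have h4 : b0⁻¹ * b * a * (b0⁻¹ * b)⁻¹ = a := by
        have e : b0⁻¹ * b * a * (b0⁻¹ * b)⁻¹ = b0⁻¹ * (b * a * b⁻¹) * b0 := by group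
        rw [e, h3]
      have h5 : (b0⁻¹ * b) * a = a * (b0⁻¹ * b) := mul_inv_eq_iff_eq_mul.1 h4
      exact Finset.mem_coe.2 (Finset.mem_filter.2 ⟨Finset.mem_univ _, B.mul_mem (B.inv_mem hb0') hbB,
        mem_cen.2 h5⟩)
    · intro b _ b' _ hbb
      exact mul_left_cancel hbb)
  have h2 : (BF.image (fun b => b * a * b⁻¹)).card ≤ S.card := by
    apply Finset.card_le_card
    intro v hv
    obtain ⟨b0, hb0, rfl⟩ := Finset.mem_image.1 hv
    exact h b0 (Finset.mem_filter.1 hb0).2
  calc BF.card ≤ IF.card * (BF.image (fun b => b * a * b⁻¹)).card := h1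
    _ ≤ IF.card * S.card := Nat.mul_le_mul_left _ h2
    _ = S.card * IF.card := mul_comm _ _

/-- An orbit containing `S` gives the reverse bound. -/
theorem orbit_le_card (B : Subgroup G) (a : G) (S : Finset G) (h : ∀ s ∈ S, ∃ b ∈ B, s = b * a * b⁻¹) :
    S.card * Nat.card (B ⊓ centralizer ({a} : Set G) : Subgroup G) ≤ Nat.card B := by
  classical
  cases nonempty_fintype G
  set BF : Finset G := Finset.univ.filter (fun g => g ∈ B) with hBF
  have e1 : BF.card = Nat.card B := by
    rw [Nat.card_eq_fintype_card, Fintype.card_subtype]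
  set IF : Finset G := Finset.univ.filter (fun g => g ∈ B ⊓ centralizer ({a} : Set G)) with hIF
  have e2 : IF.card = Nat.card (B ⊓ centralizer ({a} : Set G) : Subgroup G) := by
    rw [Nat.card_eq_fintype_card, Fintype.card_subtype]
  rw [← e1, ← e2]
  have h1 := Finset.mul_card_image_le_card (f := fun b => b * a * b⁻¹) BF IF.card (by
    intro v hv
    obtain ⟨b0, hb0, rfl⟩ := Finset.mem_image.1 hv
    have hb0' : b0 ∈ B := (Finset.mem_filter.1 hb0).2
    refine Finset.card_le_card_of_injOn (fun b => b0 * b) ?_ ?_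
    · intro b hb
      have hb' := (Finset.mem_filter.1 hb).2
      refine Finset.mem_coe.2 (Finset.mem_filter.2 ⟨Finset.mem_filter.2 ⟨Finset.mem_univ _, B.mul_mem hb0' hb'.1⟩, ?_⟩)
      have h3 : b * a = a * b := mem_cen.1 hb'.2
      have h4 : b * a * b⁻¹ = a := by rw [h3]; group
      calc b0 * b * a * (b0 * b)⁻¹ = b0 * (b * a * b⁻¹) * b0⁻¹ := by group
        _ = b0 * a * b0⁻¹ := by rw [h4]
    · intro b _ b' _ hbb
      exact mul_left_cancel hbb)
  have h2 : S.card ≤ (BF.image (fun b => b * a * b⁻¹)).card := by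
    apply Finset.card_le_card
    intro v hv
    obtain ⟨b, hb, rfl⟩ := h v hv
    exact Finset.mem_image.2 ⟨b, Finset.mem_filter.2 ⟨Finset.mem_univ _, hb⟩, rfl⟩
  calc S.card * IF.card ≤ (BF.image (fun b => b * a * b⁻¹)).card * IF.card :=
        Nat.mul_le_mul_right _ h2
    _ = IF.card * (BF.image (fun b => b * a * b⁻¹)).card := mul_comm _ _
    _ ≤ BF.card := h1

/-- A commutator power formula. -/
theorem comm_pow_formula {a t : G} (hc : Commute (a * t * a⁻¹ * t⁻¹) t) (k : ℕ) :
    (a * t * a⁻¹ * t⁻¹) ^ k = a * t ^ k * a⁻¹ * (t ^ k)⁻¹ := by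
  induction k with
  | zero => simp
  | succ k ih =>
    have h1 : Commute (a * t * a⁻¹ * t⁻¹) (t ^ k) := hc.pow_right k
    calc (a * t * a⁻¹ * t⁻¹) ^ (k + 1) = (a * t ^ k * a⁻¹ * (t ^ k)⁻¹) * (a * t * a⁻¹ * t⁻¹) := by
          rw [pow_succ, ih]
      _ = a * t ^ k * a⁻¹ * ((a * t * a⁻¹ * t⁻¹) * (t ^ k)⁻¹) := by
          have h2 : (t ^ k)⁻¹ * (a * t * a⁻¹ * t⁻¹) = (a * t * a⁻¹ * t⁻¹) * (t ^ k)⁻¹ :=
            (h1.inv_right).eq.symm
          rw [mul_assoc (a * t ^ k * a⁻¹), h2]
      _ = a * t ^ (k + 1) * a⁻¹ * (t ^ (k + 1))⁻¹ := by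
          rw [pow_succ]; group

/-- Fitting decomposition of an abelian normal subgroup under a coprime automorphism. -/
theorem decomp_L (L : Subgroup G) [L.Normal] (hL : ∀ a ∈ L, ∀ b ∈ L, a * b = b * a) {t : G} {N : ℕ}
    (hco : N.Coprime (Nat.card L)) (ht : t ^ N = 1) {l0 : G} (hl0 : l0 ∈ L) :
    ∃ l1 ∈ L, ∃ a ∈ L, l0 = l1 * (a * t * a⁻¹ * t⁻¹) ∧ l1 * t = t * l1 := by
  have hmem : ∀ a ∈ L, a * t * a⁻¹ * t⁻¹ ∈ L := by
    intro a ha
    have h1 : t * a⁻¹ * t⁻¹ ∈ L := ‹L.Normal›.conj_mem _ (L.inv_mem ha) t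
    have h2 := L.mul_mem ha h1
    have e : a * (t * a⁻¹ * t⁻¹) = a * t * a⁻¹ * t⁻¹ := by group
    rwa [e] at h2
  let φ : L →* L :=
    { toFun := fun a => ⟨a.1 * t * a.1⁻¹ * t⁻¹, hmem a.1 a.2⟩
      map_one' := by
        apply Subtype.ext
        simp
      map_mul' := by
        rintro ⟨a, ha⟩ ⟨b, hb⟩
        apply Subtype.ext
        change a * b * t * (a * b)⁻¹ * t⁻¹ = (a * t * a⁻¹ * t⁻¹) * (b * t * b⁻¹ * t⁻¹)
        have hA : t * a⁻¹ * t⁻¹ ∈ L := ‹L.Normal›.conj_mem _ (L.inv_mem ha) t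
        have hB : b * t * b⁻¹ * t⁻¹ ∈ L := hmem b hb
        have hcomm := hL _ hA _ hB
        calc a * b * t * (a * b)⁻¹ * t⁻¹ = a * ((b * t * b⁻¹ * t⁻¹) * (t * a⁻¹ * t⁻¹)) := by group
          _ = a * ((t * a⁻¹ * t⁻¹) * (b * t * b⁻¹ * t⁻¹)) := by rw [hcomm]
          _ = (a * t * a⁻¹ * t⁻¹) * (b * t * b⁻¹ * t⁻¹) := by group }
  have hφ : ∀ a : L, (φ a : G) = a.1 * t * a.1⁻¹ * t⁻¹ := fun a => rfl
  have hdisj : Disjoint φ.ker φ.range := by
    rw [Subgroup.disjoint_iff_mul_eq_one]
    rintro w v hw ⟨a, rfl⟩ hwv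
    have hv : φ a = 1 := by
      rw [MonoidHom.mem_ker] at hw
      have e : w = (φ a)⁻¹ := eq_inv_of_mul_eq_one_left hwv
      have h1 : φ (φ a) = 1 := by
        have : φ (φ a)⁻¹ = 1 := e ▸ hw
        rw [map_inv] at this
        exact inv_eq_one.1 this
      -- the element `φ a` commutes with `t`
      have h2 : Commute ((φ a : L) : G) t := by
        have h3 : ((φ (φ a) : L) : G) = 1 := by rw [h1]; rfl
        rw [hφ] at h3
        have h4 : ((φ a : L) : G) * t * ((φ a : L) : G)⁻¹ = t := by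
          exact mul_inv_eq_one.1 h3
        exact mul_inv_eq_iff_eq_mul.1 h4
      have h5 := comm_pow_formula (a := a.1) (t := t) (by simpa [hφ] using h2) N
      rw [ht] at h5
      have h6 : ((φ a : L) : G) ^ N = 1 := by
        rw [hφ, h5]; simp
      have h7 : ((φ a : L) : G) ^ Nat.card L = 1 := by
        have : (φ a) ^ Nat.card L = 1 := pow_card_eq_one'
        exact congrArg Subtype.val this
      have h8 := Cfsg.Agent.Lib.ClassGraph.Basic.eq_one_of_pow_coprime hco h6 h7
      exact Subtype.ext h8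
    refine ⟨?_, hv⟩
    have e : w = (φ a)⁻¹ := eq_inv_of_mul_eq_one_left hwv
    rw [e, hv, inv_one]
  have hcard : Nat.card φ.ker * Nat.card φ.range = Nat.card L := by
    have := Subgroup.index_ker φ
    have h2 := Subgroup.card_mul_index φ.ker
    rw [this] at h2
    exact h2
  have hcomp := isComplement'_of_card_mul_and_disjoint hcard hdisj
  obtain ⟨⟨v, w⟩, hvw⟩ := hcomp.2 (⟨l0, hl0⟩ : L)
  obtain ⟨a, ha⟩ := w.2
  have e : (v : L) * (w : L) = ⟨l0, hl0⟩ := hvw
  have hvk : φ (v : L) = 1 := v.2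
  refine ⟨((v : L) : G), (v : L).2, a.1, a.2, ?_, ?_⟩
  · have h1 := congrArg Subtype.val e
    change ((v : L) : G) * ((w : L) : G) = l0 at h1
    rw [← ha, hφ] at h1
    exact h1.symm
  · have h3 : ((φ (v : L) : L) : G) = 1 := by rw [hvk]; rfl
    rw [hφ] at h3
    have h4 : ((v : L) : G) * t * ((v : L) : G)⁻¹ = t := mul_inv_eq_one.1 h3
    exact mul_inv_eq_iff_eq_mul.1 h4

end Finite

end General

/-- The hypotheses of the theorem. -/
structure Hyp (G : Type*) [Group G] [Finite G] (m n : ℕ) where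
  hmn : n < m
  hn : 1 < n
  hcop : m.Coprime n
  htop : ∀ z : G, cs z ≤ m
  hsecond : ∀ z : G, cs z < m → cs z ≤ n
  x : G
  y : G
  hx : cs x = n
  hy : cs y = m

namespace Hyp

variable {G : Type*} [Group G] [Finite G] {m n : ℕ} (H : Hyp G m n)

include H

theorem cs_ne_one_of_eq_m {z : G} (hz : cs z = m) : z ∉ center G := by
  intro h
  have := cs_eq_one_iff.2 h
  have h1 := H.hmn
  have h2 := H.hn
  omega

theorem cs_ne_one_of_eq_n {z : G} (hz : cs z = n) : z ∉ center G := by
  intro h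
  have := cs_eq_one_iff.2 h
  have h2 := H.hn
  omega

/-- The two families. -/
noncomputable def D : Setup G where
  S1 := {w | w ∉ center G ∧ (cs w).Coprime m}
  S2 := {y | cs y = m}
  nz1 := fun x hx => hx.1
  nz2 := fun y hy => H.cs_ne_one_of_eq_m hy
  ne1 := ⟨H.x, H.cs_ne_one_of_eq_n H.hx, by rw [H.hx]; exact H.hcop.symm⟩
  ne2 := ⟨H.y, H.hy⟩
  conj1 := fun x hx t => ⟨by
      intro hz
      apply hx.1
      have := cs_eq_one_iff.2 hz
      rw [cs_conj] at this
      exact cs_eq_one_iff.1 this, by rw [cs_conj]; exact hx.2⟩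
  cop := fun x hx y hy => by
    have hy' : cs y = m := hy
    rw [hy']
    exact hx.2
  rel := fun x hx y hy => by
    have hy' : cs y = m := hy
    intro x' hx'
    refine mem_St_of_le' (by rw [hy']; exact hx.2) ?_ hx'
    rw [hy']
    exact H.htop _

theorem mem_S1_x : H.x ∈ H.D.S1 := ⟨H.cs_ne_one_of_eq_n H.hx, by rw [H.hx]; exact H.hcop.symm⟩

/-- Step 1: a noncentral element of class size below `m` has class size not coprime to `n`. -/
theorem not_coprime_n {z : G} (hz : z ∉ center G) (hlt : cs z < m) : ¬ (cs z).Coprime n := by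
  intro hc
  have hco : (cs H.x).Coprime (cs z) := by rw [H.hx]; exact hc.symm
  have hle : cs (H.x * z) ≤ cs H.x := by
    by_contra hcon
    rw [H.hx] at hcon
    have h1 : ¬ cs (H.x * z) < m := fun h => hcon (H.hsecond _ h)
    have h2 : cs (H.x * z) = m := le_antisymm (H.htop _) (not_lt.1 h1)
    have hsub : centralizer ({H.x} : Set G) ⊓ centralizer ({z} : Set G) ≤
        centralizer ({H.x * z} : Set G) := by
      rintro g ⟨g1, g2⟩
      have g1' : Commute g H.x := mem_cen.1 g1
      have g2' : Commute g z := mem_cen.1 g2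
      exact mem_cen.2 (g1'.mul_right g2')
    have h3 := index_dvd_of_le hsub
    rw [Cfsg.Agent.Lib.Solvable.HallRel.index_inf_of_coprime _ _ hco] at h3
    have h4 : m ∣ n * cs z := by
      have h3' : cs (H.x * z) ∣ cs H.x * cs z := h3
      rwa [h2, H.hx] at h3'
    have h5 : m ∣ cs z := Nat.Coprime.dvd_of_dvd_mul_left H.hcop h4
    have hpos : 0 < cs z := Nat.pos_of_ne_zero index_ne_zero_of_finite
    exact absurd (Nat.le_of_dvd hpos h5) (not_le.2 hlt)
  have hR : Rel z H.x := fun z' hz' => mem_St_of_le hco hle hz'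
  have hR2 : Rel H.x H.y := H.D.rel _ H.mem_S1_x _ H.hy
  refine no_mix hz hR hR2 ?_
  rw [H.hx, H.hy]
  exact H.hcop.symm

/-- A class size dividing `m` is `1` or `m`. -/
theorem dvd_m {w : G} (h : cs w ∣ m) : w ∈ center G ∨ cs w = m := by
  by_cases hz : w ∈ center G
  · exact Or.inl hz
  right
  by_contra hne
  have hlt : cs w < m := lt_of_le_of_ne (H.htop w) hne
  exact H.not_coprime_n hz hlt (Nat.Coprime.coprime_dvd_left h H.hcop)

/-- Centralizers of class size `m` elements control commuting elements of coprime order. -/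
theorem top_cen_le {y v : G} (hy : cs y = m) (hc : Commute y v)
    (ho : (orderOf y).Coprime (orderOf v)) :
    centralizer ({y} : Set G) ≤ centralizer ({v} : Set G) := by
  have e := cen_mul_eq hc ho
  have hle : centralizer ({y * v} : Set G) ≤ centralizer ({y} : Set G) := by
    rw [e]; exact inf_le_left
  have h1 : cs y ∣ cs (y * v) := index_dvd_of_le hle
  have hpos : 0 < cs (y * v) := Nat.pos_of_ne_zero index_ne_zero_of_finite
  have h2 : m ≤ cs (y * v) := by
    rw [← hy]; exact Nat.le_of_dvd hpos h1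
  have h3 : cs (y * v) = cs y := by
    rw [hy]; exact le_antisymm (H.htop _) h2
  have h4 := eq_of_le_of_index_eq hle h3
  intro g hg
  rw [← h4, e] at hg
  exact hg.2

theorem top_comm {y v : G} (hy : cs y = m) (hc : Commute y v)
    (ho : (orderOf y).Coprime (orderOf v)) : v ∈ center G ∨ cs v = m :=
  H.dvd_m ((index_dvd_of_le (H.top_cen_le hy hc ho)).trans hy.dvd)

section Q

variable {q : ℕ} [hqf : Fact q.Prime]

theorem not_dvd_m (hq : q ∣ n) : ¬ q ∣ m := by
  intro h
  have h1 := H.hcop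
  have h2 : q ∣ 1 := h1 ▸ Nat.dvd_gcd h hq
  exact hqf.out.one_lt.ne' (Nat.dvd_one.1 h2)

/-- Every Sylow `q`-subgroup (`q` dividing `n`) contains an element of class size `m`. -/
theorem exists_top_in_sylow (hq : q ∣ n) (Q : Sylow q G) : ∃ u ∈ (Q : Subgroup G), cs u = m := by
  have hqx : q ∣ cs H.x := by rwa [H.hx]
  have hQ : ¬ (Q : Subgroup G) ≤ centralizer ({H.x} : Set G) := by
    intro h
    exact Q.not_dvd_index (hqx.trans (index_dvd_of_le h))
  obtain ⟨g, hg, hg2⟩ := SetLike.not_le_iff_exists.1 hQ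
  have hgz : g ∉ center G := fun h => hg2 (mem_cen.2 (mem_center_iff.1 h _).symm)
  obtain ⟨Q1, hQ1⟩ := exists_sylow_cen (p := q) (y := H.y) (by rw [H.hy]; exact H.not_dvd_m hq)
  obtain ⟨t, rfl⟩ := MulAction.exists_smul_eq G Q1 Q
  -- the conjugate of `y` commuting with the given Sylow subgroup
  set y1 := t * H.y * t⁻¹ with hy1
  have hy1cs : cs y1 = m := by rw [hy1, cs_conj, H.hy]
  have hy1c : y1 ∈ centralizer (((t • Q1 : Sylow q G) : Subgroup G) : Set G) := by
    rw [mem_centralizer_iff] at hQ1 ⊢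
    intro k hk
    rw [SetLike.mem_coe, mem_smul_sylow] at hk
    have h1 := hQ1 _ hk
    calc k * y1 = t * ((t⁻¹ * k * t) * H.y) * t⁻¹ := by rw [hy1]; group
      _ = t * (H.y * (t⁻¹ * k * t)) * t⁻¹ := by rw [h1]
      _ = y1 * k := by rw [hy1]; group
  obtain ⟨c, d, hcd, hc1, hd1, ⟨a, ha⟩, hdq⟩ := exists_split y1 hqf.out
  have hccs : cs c ∣ m := (cs_zpow_dvd hc1).trans hy1cs.dvd
  rcases H.dvd_m hccs with hcz | hcm
  · -- `y1 = c d` with `c` central: `d` has class size `m` and order prime to `q`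
    have hdcen : cs d = m := by
      have e : centralizer ({d} : Set G) = centralizer ({y1} : Set G) := by
        apply le_antisymm
        · intro w hw
          have h1 : Commute w d := mem_cen.1 hw
          have h2 : Commute w c := (mem_center_iff.1 hcz w)
          apply mem_cen.2
          rw [hcd]
          exact h2.mul_right h1
        · exact cen_le_of_zpow hd1
      rw [cs, e]; exact hy1cs
    have hgd : Commute d g := by
      have h1 : g ∈ centralizer ({y1} : Set G) := mem_cen.2 (mem_centralizer_iff.1 hy1c g hg)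
      exact (mem_cen.1 (cen_le_of_zpow hd1 h1)).symm
    obtain ⟨k, hk⟩ := (IsPGroup.iff_orderOf.1 (t • Q1).isPGroup') ⟨g, hg⟩
    rw [Subgroup.orderOf_mk] at hk
    have ho : (orderOf d).Coprime (orderOf g) := by
      rw [hk]
      exact Nat.Coprime.pow_right k hdq
    rcases H.top_comm hdcen hgd ho with h | h
    · exact (hgz h).elim
    · exact ⟨g, hg, h⟩
  · -- `c` itself
    refine ⟨c, mem_sylow_of_comm _ ha ?_, hcm⟩
    obtain ⟨k, rfl⟩ := hc1
    rw [mem_centralizer_iff] at hy1c ⊢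
    intro w hw
    have h1 := hy1c w hw
    have h2 : Commute w y1 := h1
    exact h2.zpow_right k

theorem coprime_card_L (hq : q ∣ n) : ¬ q ∣ Nat.card H.D.L := by
  intro h
  have h1 : Nat.card H.D.L ∣ cs H.y := card_L_dvd (D := H.D) H.hy
  rw [H.hy] at h1
  exact H.not_dvd_m hq (h.trans h1)

theorem order_coprime_of_sylow (hq : q ∣ n) {u : G} {a : ℕ} (hu : u ^ q ^ a = 1) :
    (orderOf u).Coprime (Nat.card H.D.L) :=
  orderOf_coprime_of_pow hqf.out hu (H.coprime_card_L hq)

end Q

theorem exists_prime_n : ∃ q : ℕ, q.Prime ∧ q ∣ n :=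
  ⟨n.minFac, Nat.minFac_prime (by have := H.hn; omega), Nat.minFac_dvd n⟩

theorem order_L_coprime {q : ℕ} [hqf : Fact q.Prime] (hq : q ∣ n) {l : G} (hl : l ∈ H.D.L) :
    (orderOf l).Coprime q := by
  have h1 : orderOf l ∣ Nat.card H.D.L := by
    have : (⟨l, hl⟩ : H.D.L) ^ Nat.card H.D.L = 1 := pow_card_eq_one'
    exact orderOf_dvd_of_pow_eq_one (congrArg Subtype.val this)
  exact Nat.Coprime.coprime_dvd_left h1 ((Nat.Prime.coprime_iff_not_dvd hqf.out).2 (H.coprime_card_L hq)).symm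

/-- Step 5: elements of the first family lie in `Z L`. -/
theorem S1_inK {w : G} (hw : w ∈ H.D.S1) : H.D.InK w := by
  obtain ⟨q, hqp, hq⟩ := H.exists_prime_n
  haveI : Fact q.Prime := ⟨hqp⟩
  obtain ⟨Q⟩ : Nonempty (Sylow q G) := inferInstance
  obtain ⟨u, hu, hum⟩ := H.exists_top_in_sylow hq Q
  obtain ⟨k, hk⟩ := (IsPGroup.iff_orderOf.1 Q.isPGroup') ⟨u, hu⟩
  rw [Subgroup.orderOf_mk] at hk
  have hu1 : u ^ q ^ k = 1 := by rw [← hk]; exact pow_orderOf_eq_one u
  have huS : u ∈ H.D.S2 := hum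
  have hfp : ∀ l ∈ H.D.L, l * u = u * l → l = 1 := fun l hl h =>
    eq_one_of_comm huS (H.order_coprime_of_sylow hq hu1) hl h
  obtain ⟨c, d, hcd, hc1, hd1, ⟨a, ha⟩, hdq⟩ := exists_split w hqp
  have hcc : (cs c).Coprime m := Nat.Coprime.coprime_dvd_left (cs_zpow_dvd hc1) hw.2
  have hcz : c ∈ center G := by
    by_contra hcz
    exact not_coprime_order (D := H.D) ⟨hcz, hcc⟩ (H.order_coprime_of_sylow hq ha)
  have hcen : centralizer ({d} : Set G) = centralizer ({w} : Set G) := by
    apply le_antisymm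
    · intro g hg
      have h1 : Commute g d := mem_cen.1 hg
      have h2 : Commute g c := (mem_center_iff.1 hcz g)
      apply mem_cen.2
      rw [hcd]
      exact h2.mul_right h1
    · exact cen_le_of_zpow hd1
  have hdS : d ∈ H.D.S1 := by
    refine ⟨?_, ?_⟩
    · intro hdz
      apply hw.1
      rw [hcd]
      exact (center G).mul_mem hcz hdz
    · have : cs d = cs w := by rw [cs, hcen]
      rw [this]
      exact hw.2
  obtain ⟨l, hl, hcomm⟩ := exists_fix (D := H.D) hfp hdS
  have hld : Commute l d := comm_L hdS hl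
  have hord : (orderOf (l * d)).Coprime q := by
    have h1 : (l * d) ^ (orderOf l * orderOf d) = 1 := by
      rw [hld.mul_pow, pow_mul, pow_orderOf_eq_one, one_pow, one_mul, mul_comm, pow_mul,
        pow_orderOf_eq_one, one_pow]
    exact Nat.Coprime.coprime_dvd_left (orderOf_dvd_of_pow_eq_one h1)
      (Nat.Coprime.mul_left (H.order_L_coprime hq hl) hdq)
  have hucomm : Commute u (l * d) := hcomm.symm
  have ho : (orderOf u).Coprime (orderOf (l * d)) := by
    rw [hk]
    exact Nat.Coprime.pow_left k hord.symm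
  rcases H.top_comm hum hucomm ho with h0 | h2
  · have : d = l⁻¹ * (l * d) := by group
    rw [hcd, this]
    refine ⟨l⁻¹, (H.D.L).inv_mem hl, (l * d) * c, (center G).mul_mem h0 hcz, ?_⟩
    have h3 := mem_center_iff.1 hcz
    calc c * (l⁻¹ * (l * d)) = l⁻¹ * (c * (l * d)) := by
          rw [← mul_assoc, ← h3 l⁻¹, mul_assoc]
      _ = l⁻¹ * ((l * d) * c) := by rw [h3]
  · exfalso
    have h3 : IsConj (l * d) ((l * d) * l⁻¹) :=
      (L_le_St (D := H.D) (y := l * d) h2 ((H.D.L).inv_mem hl)) _ (IsConj.refl _)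
    have e : (l * d) * l⁻¹ = d := by
      rw [hld.eq]; group
    rw [e] at h3
    have h4 := cs_of_isConj h3
    have h5 := hdS.2
    rw [← h4, h2] at h5
    have h6 : m = 1 := by
      have : Nat.gcd m m = 1 := h5
      rwa [Nat.gcd_self] at this
    have := H.hmn
    have := H.hn
    omega

/-- Step 6: an element of `L` of class size `n`. -/
theorem exists_L_n : ∃ l ∈ H.D.L, cs l = n := by
  obtain ⟨l, hl, z, hz, he⟩ := H.S1_inK H.mem_S1_x
  refine ⟨l, hl, ?_⟩
  rw [← H.hx]
  have e : centralizer ({l} : Set G) = centralizer ({H.x} : Set G) := by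
    apply le_antisymm
    · intro g hg
      have h1 : Commute g l := mem_cen.1 hg
      have h2 : Commute g z := (mem_center_iff.1 hz g)
      apply mem_cen.2
      rw [he]
      exact h1.mul_right h2
    · intro g hg
      have h1 : Commute g H.x := mem_cen.1 hg
      have h2 : Commute g z := (mem_center_iff.1 hz g)
      apply mem_cen.2
      have : l = H.x * z⁻¹ := by rw [he]; group
      rw [this]
      exact h1.mul_right h2.inv_right
  rw [cs, e]

/-- Step 6': `q`-elements commuting with an element of `L` of class size `n` are central. -/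
theorem central_of_comm_L {q : ℕ} [hqf : Fact q.Prime] (hq : q ∣ n) {l v : G} (hl : l ∈ H.D.L)
    (hln : cs l = n) {a : ℕ} (hv : v ^ q ^ a = 1) (hc : Commute l v) : v ∈ center G := by
  have hov : (orderOf v).Coprime (orderOf l) :=
    orderOf_coprime_of_pow hqf.out hv (fun h => by
      have := H.order_L_coprime hq hl
      have h2 : q ∣ 1 := this ▸ Nat.dvd_gcd h dvd_rfl
      exact hqf.out.one_lt.ne' (Nat.dvd_one.1 h2))
  have e := cen_mul_eq hc hov.symm
  have hle : centralizer ({l * v} : Set G) ≤ centralizer ({l} : Set G) := by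
    rw [e]; exact inf_le_left
  have h1 : n ∣ cs (l * v) := by
    rw [← hln]; exact index_dvd_of_le hle
  have hpos : 0 < cs (l * v) := Nat.pos_of_ne_zero index_ne_zero_of_finite
  have hnem : cs (l * v) ≠ m := by
    intro h
    rw [h] at h1
    have h2 : n ∣ 1 := H.hcop.symm ▸ Nat.dvd_gcd dvd_rfl h1
    have := Nat.dvd_one.1 h2
    have := H.hn
    omega
  have hlt : cs (l * v) < m := lt_of_le_of_ne (H.htop _) hnem
  have hle2 := H.hsecond _ hlt
  have hn2 : cs (l * v) = n := le_antisymm hle2 (Nat.le_of_dvd hpos h1)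
  have h3 := eq_of_le_of_index_eq hle (by
    change cs (l * v) = cs l
    rw [hn2, hln])
  have hcv : centralizer ({l} : Set G) ≤ centralizer ({v} : Set G) := by
    intro g hg
    rw [← h3, e] at hg
    exact hg.2
  have h4 : cs v ∣ n := by
    rw [← hln]; exact index_dvd_of_le hcv
  by_contra hvz
  exact not_coprime_order (D := H.D) ⟨hvz, Nat.Coprime.coprime_dvd_left h4 H.hcop.symm⟩
    (H.order_coprime_of_sylow hq hv)

section Q2

variable {q : ℕ} [hqf : Fact q.Prime]

/-- Step 7: fixed points of a non-top `q`-element on `L` are trivial. -/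
theorem fp_of_not_top (hq : q ∣ n) {t : G} {a : ℕ} (ht : t ^ q ^ a = 1) (htz : t ∉ center G)
    (htm : cs t ≠ m) {l : G} (hl : l ∈ H.D.L) (hc : l * t = t * l) : l = 1 := by
  classical
  cases nonempty_fintype G
  by_contra hl1
  obtain ⟨l0, hl0, hl0n⟩ := H.exists_L_n
  haveI hLn : (H.D.L).Normal := by unfold Setup.L; exact normalClosure_normal
  have hLc : ∀ a ∈ H.D.L, ∀ b ∈ H.D.L, a * b = b * a := fun a ha b hb => L_comm ha hb
  have hcoN : (q ^ a).Coprime (Nat.card H.D.L) :=
    Nat.Coprime.pow_left a ((Nat.Prime.coprime_iff_not_dvd hqf.out).2 (H.coprime_card_L hq))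
  obtain ⟨l1, hl1L, b, hb, hdec, hl1c⟩ := decomp_L H.D.L hLc hcoN ht hl0
  set l2 := b * t * b⁻¹ * t⁻¹ with hl2
  have hl2ne : l2 ≠ 1 := by
    intro h
    rw [h, mul_one] at hdec
    rw [hdec] at hl0n hl0
    exact htz (H.central_of_comm_L hq hl0 hl0n ht hl1c)
  -- the auxiliary element
  obtain ⟨l', hl'L, hl'1, hl'c, hl'B⟩ : ∃ l' ∈ H.D.L, l' ≠ 1 ∧ l' * t = t * l' ∧
      (∀ g, g * l' = l' * g → g * l2 = l2 * g → g * l0 = l0 * g) := by
    by_cases h1 : l1 = 1
    · refine ⟨l, hl, hl1, hc, ?_⟩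
      intro g _ h3
      rw [hdec, h1, one_mul]
      exact h3
    · refine ⟨l1, hl1L, h1, hl1c, ?_⟩
      intro g h2 h3
      have e1 : Commute g l1 := h2
      have e2 : Commute g l2 := h3
      rw [hdec]
      exact e1.mul_right e2
  -- the product with `t`
  have hord : (orderOf l').Coprime (orderOf t) := by
    have h1 := H.order_L_coprime hq hl'L
    exact (orderOf_coprime_of_pow hqf.out ht (fun h => by
      have h2 : q ∣ 1 := h1 ▸ Nat.dvd_gcd h dvd_rfl
      exact hqf.out.one_lt.ne' (Nat.dvd_one.1 h2))).symm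
  have hcen := cen_mul_eq (x := l') (y := t) hl'c hord
  have hne : cs (l' * t) ≠ m := by
    intro h
    have h1 : cs t ∣ cs (l' * t) := index_dvd_of_le (by rw [hcen]; exact inf_le_right)
    rw [h] at h1
    rcases H.dvd_m h1 with h2 | h2
    · exact htz h2
    · exact htm h2
  have hlt : cs (l' * t) < m := lt_of_le_of_ne (H.htop _) hne
  have hle := H.hsecond _ hlt
  set B : Subgroup G := centralizer ({l'} : Set G) ⊓ centralizer ({t} : Set G) with hB
  have hcB : centralizer ({l' * t} : Set G) = B := hcen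
  have hcard1 : Nat.card (centralizer ({l0} : Set G)) ≤ Nat.card B := by
    have h1 := card_mul_index (centralizer ({l0} : Set G))
    have h2 := card_mul_index (centralizer ({l' * t} : Set G))
    have h2' : Nat.card B * cs (l' * t) = Nat.card G := by
      rw [← hcB]; exact h2
    have h1' : Nat.card (centralizer ({l0} : Set G)) * cs l0 = Nat.card G := h1
    rw [hl0n] at h1'
    have hpos : 0 < Nat.card G := Nat.card_pos
    by_contra hcon
    have hlt2 : Nat.card B < Nat.card (centralizer ({l0} : Set G)) := not_le.1 hcon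
    have hcspos : 0 < cs (l' * t) := Nat.pos_of_ne_zero index_ne_zero_of_finite
    have : Nat.card B * cs (l' * t) < Nat.card (centralizer ({l0} : Set G)) * n :=
      calc Nat.card B * cs (l' * t) < Nat.card (centralizer ({l0} : Set G)) * cs (l' * t) :=
            Nat.mul_lt_mul_of_pos_right hlt2 hcspos
        _ ≤ _ := Nat.mul_le_mul_left _ hle
    omega
  -- counting
  set Wr : Finset G := Finset.univ.filter (fun w => ∃ c ∈ H.D.L, w = c * t * c⁻¹ * t⁻¹) with hWr
  have h1W : (1 : G) ∈ Wr := Finset.mem_filter.2 ⟨Finset.mem_univ _, 1, (H.D.L).one_mem, by simp⟩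
  have hl2W : l2 ∈ Wr := Finset.mem_filter.2 ⟨Finset.mem_univ _, b, hb, rfl⟩
  have hcard2 := card_le_orbit B l2 (Wr.erase 1) (by
    rintro g ⟨_, hg2⟩
    have hg2' : g * t = t * g := mem_cen.1 hg2
    refine Finset.mem_erase.2 ⟨?_, Finset.mem_filter.2 ⟨Finset.mem_univ _, g * b * g⁻¹,
      ‹(H.D.L).Normal›.conj_mem _ hb g, ?_⟩⟩
    · intro h
      apply hl2ne
      have : g⁻¹ * (g * l2 * g⁻¹) * g = l2 := by group
      rw [← this, h]
      group
    · have hinv : g⁻¹ * t = t * g⁻¹ := by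
        have := congrArg (fun w => g⁻¹ * w * g⁻¹) hg2'
        have e1 : g⁻¹ * (g * t) * g⁻¹ = t * g⁻¹ := by group
        have e2 : g⁻¹ * (t * g) * g⁻¹ = g⁻¹ * t := by group
        simp only [e1, e2] at this
        exact this.symm
      have hinv2 : g * t⁻¹ = t⁻¹ * g := by
        have := congrArg (fun w => t⁻¹ * w * t⁻¹) hg2'
        have e1 : t⁻¹ * (g * t) * t⁻¹ = t⁻¹ * g := by group
        have e2 : t⁻¹ * (t * g) * t⁻¹ = g * t⁻¹ := by group
        simp only [e1, e2] at this
        exact this.symm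
      calc g * l2 * g⁻¹ = g * b * t * b⁻¹ * (t⁻¹ * g⁻¹) := by rw [hl2]; group
        _ = g * b * t * b⁻¹ * (g⁻¹ * t⁻¹) := by
            congr 1
            have : t⁻¹ * g⁻¹ = (g * t)⁻¹ := by group
            have h2 : g⁻¹ * t⁻¹ = (t * g)⁻¹ := by group
            rw [this, h2, hg2']
        _ = g * b * (t * g⁻¹) * (g * b⁻¹ * g⁻¹) * t⁻¹ := by group
        _ = g * b * (g⁻¹ * t) * (g * b⁻¹ * g⁻¹) * t⁻¹ := by rw [hinv]
        _ = g * b * g⁻¹ * t * (g * b * g⁻¹)⁻¹ * t⁻¹ := by group)
  have hsub : B ⊓ centralizer ({l2} : Set G) ≤ centralizer ({l0} : Set G) ⊓ centralizer ({t} : Set G) := by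
    rintro g ⟨⟨g1, g2⟩, g3⟩
    exact ⟨mem_cen.2 (hl'B g (mem_cen.1 g1) (mem_cen.1 g3)), g2⟩
  have hcard3 : Nat.card (B ⊓ centralizer ({l2} : Set G) : Subgroup G) ≤
      Nat.card (centralizer ({l0} : Set G) ⊓ centralizer ({t} : Set G) : Subgroup G) :=
    Nat.card_le_card_of_injective _ (Subgroup.inclusion_injective hsub)
  have hcard4 := orbit_le_card (centralizer ({l0} : Set G)) t (Wr.image (fun w => w * t)) (by
    intro s hs
    obtain ⟨w, hw, rfl⟩ := Finset.mem_image.1 hs
    obtain ⟨c, hc, rfl⟩ := (Finset.mem_filter.1 hw).2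
    refine ⟨c, mem_cen.2 (hLc c hc l0 hl0), ?_⟩
    group)
  rw [Finset.card_image_of_injective _ (mul_left_injective t)] at hcard4
  have hWpos : 0 < Wr.card := Finset.card_pos.2 ⟨1, h1W⟩
  have hApos : 0 < Nat.card (centralizer ({l0} : Set G) ⊓ centralizer ({t} : Set G) : Subgroup G) :=
    Nat.card_pos
  rw [Finset.card_erase_of_mem h1W] at hcard2
  have hfinal : (Wr.card - 1) * Nat.card (centralizer ({l0} : Set G) ⊓ centralizer ({t} : Set G) : Subgroup G) <
      Wr.card * Nat.card (centralizer ({l0} : Set G) ⊓ centralizer ({t} : Set G) : Subgroup G) :=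
    Nat.mul_lt_mul_of_pos_right (by omega) hApos
  have hmono := Nat.mul_le_mul_left (Wr.card - 1) hcard3
  omega

/-- Step 8: a noncentral `q`-element has class size `m`. -/
theorem eq_m_of_q (hq : q ∣ n) {t : G} {a : ℕ} (ht : t ^ q ^ a = 1) (htz : t ∉ center G) :
    cs t = m := by
  by_contra htm
  haveI hLn : (H.D.L).Normal := by unfold Setup.L; exact normalClosure_normal
  have hfp := fun (l : G) (hl : l ∈ H.D.L) (hc : l * t = t * l) =>
    H.fp_of_not_top hq ht htz htm hl hc
  -- `|L| ≤ cs t`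
  have h1 : Nat.card H.D.L ≤ cs t := by
    rw [← card_class t]
    refine Nat.card_le_card_of_injective
      (fun c : H.D.L => (⟨c.1 * t * c.1⁻¹, isConj_iff.2 ⟨c.1, rfl⟩⟩ : {z : G // IsConj t z})) ?_
    rintro ⟨c, hc⟩ ⟨d, hd⟩ hcd
    have e : c * t * c⁻¹ = d * t * d⁻¹ := congrArg Subtype.val hcd
    have h2 : (d⁻¹ * c) * t = t * (d⁻¹ * c) := by
      have e2 : (d⁻¹ * c) * t * (d⁻¹ * c)⁻¹ = t := by
        have e3 : (d⁻¹ * c) * t * (d⁻¹ * c)⁻¹ = d⁻¹ * (c * t * c⁻¹) * d := by group
        rw [e3, e]; group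
      exact mul_inv_eq_iff_eq_mul.1 e2
    have h3 := hfp _ ((H.D.L).mul_mem ((H.D.L).inv_mem hd) hc) h2
    apply Subtype.ext
    have h4 : d⁻¹ * c = 1 := h3
    exact (inv_mul_eq_one.1 h4).symm
  -- `n < |L|`
  obtain ⟨l0, hl0, hl0n⟩ := H.exists_L_n
  have hl01 : l0 ≠ 1 := by
    rintro rfl
    exact H.cs_ne_one_of_eq_n hl0n (center G).one_mem
  have h2 : n < Nat.card H.D.L := by
    have hcl : n = Nat.card {z : G // IsConj l0 z} := by
      rw [card_class l0, hl0n]
    have hcl2 : n < Nat.card H.D.L ↔ Nat.card {z : G // IsConj l0 z} < Nat.card H.D.L :=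
      hcl ▸ Iff.rfl
    refine hcl2.2 ?_
    have h3 : Nat.card {z : G // IsConj l0 z} ≤ Nat.card {z : H.D.L // z ≠ 1} := by
      refine Nat.card_le_card_of_injective
        (fun w : {z : G // IsConj l0 z} => ⟨⟨w.1, ?_⟩, ?_⟩) ?_
      · obtain ⟨t', ht'⟩ := isConj_iff.1 w.2
        rw [← ht']
        exact ‹(H.D.L).Normal›.conj_mem _ hl0 t'
      · intro h
        have h4 : w.1 = 1 := congrArg Subtype.val h
        obtain ⟨t', ht'⟩ := isConj_iff.1 w.2
        rw [h4] at ht'
        apply hl01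
        have : l0 = t'⁻¹ * (t' * l0 * t'⁻¹) * t' := by group
        rw [this, ht']
        group
      · intro a b hab
        apply Subtype.ext
        have : (⟨a.1, _⟩ : H.D.L) = ⟨b.1, _⟩ := congrArg Subtype.val hab
        exact Subtype.mk.inj this
    refine lt_of_le_of_lt h3 ?_
    classical
    cases nonempty_fintype G
    rw [Nat.card_eq_fintype_card, Nat.card_eq_fintype_card]
    exact Fintype.card_subtype_lt (x := (1 : H.D.L)) (by simp)
  have hlt : cs t < m := lt_of_le_of_ne (H.htop _) htm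
  have h3 := H.hsecond _ hlt
  omega

end Q2

/-- Step 9: every noncentral element has class size `m` or `n`. -/
theorem eq_n_of_not_top {z : G} (hz : z ∉ center G) (hzm : cs z ≠ m) : cs z = n := by
  have hlt : cs z < m := lt_of_le_of_ne (H.htop _) hzm
  have hle := H.hsecond _ hlt
  refine le_antisymm hle ?_
  -- every `q`-element of `C(z)` is central
  have key : ∀ q : ℕ, q.Prime → q ∣ n → ∀ g ∈ centralizer ({z} : Set G), ∀ a : ℕ, g ^ q ^ a = 1 →
      g ∈ center G := by
    intro q hqp hq g hg a hga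
    haveI : Fact q.Prime := ⟨hqp⟩
    by_contra hgz
    have hgm := H.eq_m_of_q hq hga hgz
    obtain ⟨c, d, hcd, hc1, hd1, ⟨b, hb⟩, hdq⟩ := exists_split z hqp
    have hcz : c ∈ center G := by
      by_contra hcz
      have h1 := H.eq_m_of_q hq hb hcz
      have h2 : cs c ∣ cs z := cs_zpow_dvd hc1
      have hpos : 0 < cs z := Nat.pos_of_ne_zero index_ne_zero_of_finite
      have h3 := Nat.le_of_dvd hpos h2
      omega
    have hdcs : cs d = cs z := by
      have e : centralizer ({d} : Set G) = centralizer ({z} : Set G) := by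
        apply le_antisymm
        · intro w hw
          have h1 : Commute w d := mem_cen.1 hw
          have h2 : Commute w c := (mem_center_iff.1 hcz w)
          apply mem_cen.2
          rw [hcd]
          exact h2.mul_right h1
        · exact cen_le_of_zpow hd1
      rw [cs, e]
    have hdz : d ∉ center G := by
      intro hdz
      apply hz
      rw [hcd]
      exact (center G).mul_mem hcz hdz
    have hgd : Commute g d := mem_cen.1 (cen_le_of_zpow hd1 hg)
    have ho : (orderOf g).Coprime (orderOf d) :=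
      orderOf_coprime_of_pow hqp hga (fun h => by
        have h2 : q ∣ 1 := hdq ▸ Nat.dvd_gcd h dvd_rfl
        exact hqp.one_lt.ne' (Nat.dvd_one.1 h2))
    rcases H.top_comm hgm hgd ho with h | h
    · exact hdz h
    · rw [hdcs] at h
      exact hzm h
  have hZ : center G ≤ centralizer ({z} : Set G) := fun w hw => mem_cen.2 (mem_center_iff.1 hw z).symm
  have hZx : center G ≤ centralizer ({H.x} : Set G) :=
    fun w hw => mem_cen.2 (mem_center_iff.1 hw H.x).symm
  have hcop : ((center G).relIndex (centralizer ({z} : Set G))).Coprime n := by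
    apply Nat.Coprime.symm
    apply Nat.coprime_of_dvd
    intro q hqp hqn hqr
    haveI : Fact q.Prime := ⟨hqp⟩
    obtain ⟨P⟩ : Nonempty (Sylow q (centralizer ({z} : Set G))) := inferInstance
    have hle : (P : Subgroup (centralizer ({z} : Set G))) ≤
        (center G).subgroupOf (centralizer ({z} : Set G)) := by
      intro g hg
      rw [mem_subgroupOf]
      obtain ⟨k, hk⟩ := (IsPGroup.iff_orderOf.1 P.isPGroup') ⟨g, hg⟩
      rw [Subgroup.orderOf_mk] at hk
      refine key q hqp hqn g.1 g.2 k ?_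
      have : g ^ q ^ k = 1 := by rw [← hk]; exact pow_orderOf_eq_one g
      exact congrArg Subtype.val this
    exact P.not_dvd_index (hqr.trans (index_dvd_of_le hle))
  have h1 : n ∣ (center G).index := by
    rw [← H.hx]
    exact index_dvd_of_le hZx
  have h2 : (center G).index = (center G).relIndex (centralizer ({z} : Set G)) * cs z :=
    (relIndex_mul_index hZ).symm
  rw [h2] at h1
  have h3 : n ∣ cs z := Nat.Coprime.dvd_of_dvd_mul_left hcop.symm h1
  exact Nat.le_of_dvd (Nat.pos_of_ne_zero index_ne_zero_of_finite) h3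

instance covers : H.D.Covers := ⟨by
  intro g
  by_cases hz : g ∈ center G
  · exact Or.inl hz
  by_cases hm : cs g = m
  · exact Or.inr (Or.inr hm)
  · refine Or.inr (Or.inl ⟨hz, ?_⟩)
    rw [H.eq_n_of_not_top hz hm]
    exact H.hcop.symm⟩

/-- The main theorem. -/
theorem main : IsMulCommutative (centralizer ({H.x} : Set G)) ∧
    IsMulCommutative (centralizer ({H.y} : Set G)) ∧
    IsFrobeniusComplement ((centralizer ({H.y} : Set G)).map (QuotientGroup.mk' (center G))) ∧
    frobeniusKernel ((centralizer ({H.y} : Set G)).map (QuotientGroup.mk' (center G))) =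
      ((centralizer ({H.x} : Set G)).map (QuotientGroup.mk' (center G)) : Set (G ⧸ center G)) := by
  haveI := H.covers
  obtain ⟨p, hpp, hpn⟩ := H.exists_prime_n
  haveI : Fact p.Prime := ⟨hpp⟩
  have hx0 := H.mem_S1_x
  have hp : p ∣ cs H.x := by rw [H.hx]; exact hpn
  have hyS : H.y ∈ H.D.S2 := H.hy
  obtain ⟨Q, hQ⟩ := exists_sylow_cen (p := p) (y := H.y) (not_dvd_S2 hx0 hp hyS)
  have hcen := cen_eq_of_mem hx0 hp Q hyS hQ
  have hcx := mem_cen_S1_iff (D := H.D) hx0 hp hx0
  have hab := cen_abelian (D := H.D) hx0 hp Q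
  refine ⟨⟨⟨?_⟩⟩, ⟨⟨?_⟩⟩, ?_, ?_⟩
  · rintro ⟨a, ha⟩ ⟨b, hb⟩
    apply Subtype.ext
    exact inK_comm ((hcx a).1 ha) ((hcx b).1 hb)
  · rintro ⟨a, ha⟩ ⟨b, hb⟩
    apply Subtype.ext
    rw [hcen] at ha hb
    exact hab a ha b hb
  · rw [hcen]
    exact isFrobeniusComplement_cen hx0 hp Q
  · rw [hcen]
    ext w
    obtain ⟨g, rfl⟩ := QuotientGroup.mk'_surjective (center G) w
    have hZx : center G ≤ centralizer ({H.x} : Set G) :=
      fun w hw => mem_cen.2 (mem_center_iff.1 hw H.x).symm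
    rw [SetLike.mem_coe, mem_kernel_iff hx0 hp Q g, map_mem_iff hZx g, hcx g]

end Hyp

end Cfsg.Agent.Lib.ClassGraph.Top
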